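import Groth.Agent.S13132
import Mathlib.RingTheory.Regular.RegularSequence
import Mathlib.RingTheory.Ideal.Quotient.Operations

/-! Flat deformation of a regular sequence over an Artinian local ring. -/

set_option autoImplicit false

universe u v

namespace Groth.Agent.RegLift

theorem flat_quotient {A' : Type u} [CommRing A'] [IsArtinianRing A'] [IsLocalRing A'] (I : Ideal A') (hI : I ≠ ⊤)
    {S' : Type v} [CommRing S'] [Algebra A' S'] [Module.Flat A' S'] (l : List S')
    (hD : ∀ i (hi : i < l.length), ∀ s,
      l[i] * s ∈ Ideal.ofList (l.take i) ⊔ I.map (algebraMap A' S') →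
        s ∈ Ideal.ofList (l.take i) ⊔ I.map (algebraMap A' S')) :
    Module.Flat A' (S' ⧸ Ideal.ofList l) := by
  set IS := I.map (algebraMap A' S') with hIS
  let C := fun (i : ℕ) (h : i < l.length) => ∀ s, l[i] * s ∈ Ideal.ofList (l.take i) → s ∈ Ideal.ofList (l.take i)
  let D := fun (i : ℕ) (h : i < l.length) => ∀ s, l[i] * s ∈ Ideal.ofList (l.take i) ⊔ IS → s ∈ Ideal.ofList (l.take i) ⊔ IS
  have step : ∀ i (hi : i < l.length), Module.Flat A' (S' ⧸ Ideal.ofList (l.take i)) →
      (C i hi ↔ D i hi) ∧ (C i hi → Module.Flat A' (S' ⧸ Ideal.ofList (l.take (i + 1)))) := by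
    intro i hi hflat
    set J := Ideal.ofList (l.take i)
    let q := Ideal.Quotient.mk J
    have hres := Groth.Agent.S13132.result I hI (S' := S' ⧸ J) (q l[i])
    have hI' : I.map (algebraMap A' (S' ⧸ J)) = IS.map q := by
      rw [hIS, Ideal.map_map]; rfl
    have hC : q l[i] ∈ nonZeroDivisors (S' ⧸ J) ↔ C i hi := by
      rw [mem_nonZeroDivisors_iff_right]
      constructor
      · intro h s hs
        rw [← Ideal.Quotient.eq_zero_iff_mem]
        refine h (q s) ?_
        rw [← map_mul, Ideal.Quotient.eq_zero_iff_mem, mul_comm]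
        exact hs
      · intro h z hz
        obtain ⟨s, rfl⟩ := Ideal.Quotient.mk_surjective z
        rw [← map_mul, Ideal.Quotient.eq_zero_iff_mem, mul_comm] at hz
        exact Ideal.Quotient.eq_zero_iff_mem.2 (h s hz)
    have hD : Ideal.Quotient.mk (I.map (algebraMap A' (S' ⧸ J))) (q l[i]) ∈
        nonZeroDivisors ((S' ⧸ J) ⧸ I.map (algebraMap A' (S' ⧸ J))) ↔ D i hi := by
      have hm : ∀ s, q s ∈ I.map (algebraMap A' (S' ⧸ J)) ↔ s ∈ J ⊔ IS := by
        intro s
        rw [hI', ← Ideal.mem_comap, Ideal.comap_map_of_surjective q Ideal.Quotient.mk_surjective,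
          ← RingHom.ker_eq_comap_bot, Ideal.mk_ker, sup_comm]
      rw [mem_nonZeroDivisors_iff_right]
      constructor
      · intro h s hs
        rw [← hm, ← Ideal.Quotient.eq_zero_iff_mem]
        refine h _ ?_
        rw [← map_mul, ← map_mul, Ideal.Quotient.eq_zero_iff_mem, mul_comm, hm]
        exact hs
      · intro h z hz
        obtain ⟨z, rfl⟩ := Ideal.Quotient.mk_surjective z
        obtain ⟨s, rfl⟩ := Ideal.Quotient.mk_surjective z
        rw [← map_mul, ← map_mul, Ideal.Quotient.eq_zero_iff_mem, hm, mul_comm] at hz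
        exact Ideal.Quotient.eq_zero_iff_mem.2 ((hm s).2 (h s hz))
    refine ⟨by rw [← hC, hres.1, hD], fun hc => ?_⟩
    haveI := hres.2 (hC.2 hc)
    have htake : Ideal.ofList (l.take (i + 1)) = J ⊔ Ideal.span {l[i]} := by
      rw [List.take_succ_eq_append_getElem hi, Ideal.ofList_append, Ideal.ofList_singleton]
    have hsp : Ideal.span {q l[i]} = (Ideal.span {l[i]}).map (Ideal.Quotient.mkₐ A' J) := by
      rw [Ideal.map_span, Set.image_singleton]; rfl
    exact Module.Flat.of_linearEquiv (((Ideal.quotientEquivAlgOfEq A' hsp).trans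
      ((DoubleQuot.quotQuotEquivQuotSupₐ A' J (Ideal.span {l[i]})).trans
        (Ideal.quotientEquivAlgOfEq A' htake.symm))).symm.toLinearEquiv)
  have flat0 : Module.Flat A' (S' ⧸ Ideal.ofList (l.take 0)) := by
    rw [List.take_zero, Ideal.ofList_nil]
    exact Module.Flat.of_linearEquiv (AlgEquiv.quotientBot A' S').toLinearEquiv
  have flats : ∀ i ≤ l.length, (∀ j (hj : j < l.length), j < i → C j hj) → Module.Flat A' (S' ⧸ Ideal.ofList (l.take i)) := by
    intro i
    induction i with
    | zero => exact fun _ _ => flat0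
    | succ i ih =>
      intro hi h
      exact (step i hi (ih (by omega) fun j hj hji => h j hj (by omega))).2 (h i hi (by omega))
  have allD : (∀ i (hi : i < l.length), C i hi) ↔ ∀ i (hi : i < l.length), D i hi := by
    constructor
    · exact fun h i hi => ((step i hi (flats i hi.le fun j hj _ => h j hj)).1).1 (h i hi)
    · intro h i
      induction i using Nat.strong_induction_on with
      | _ i ih => exact fun hi => ((step i hi (flats i hi.le fun j hj hji => ih j hji hj)).1).2 (h i hi)
  have h := flats l.length le_rfl fun j hj _ => allD.2 hD j hj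
  rwa [List.take_length] at h

end Groth.Agent.RegLift
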